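/-
A quadratic form in `n` variables over a field of even order whose polar form is nonzero has at least
`(q ^ n - 1) (q ^ n - q) / (2 (q + 1))` congruent forms.
-/
import Cfsg.Agent.Lib.Classical.WeilSp.SymOrbit

set_option autoImplicit false

namespace CfsgLib.Classical.SpEven

open Matrix CfsgLib.Classical.WeilSp

variable {F : Type*} [Field F] [CharP F 2] {n : ℕ}

/-- The form given by a matrix. -/
def qf (M : Matrix (Fin n) (Fin n) F) : (Fin n → F) → F := fun x => x ⬝ᵥ M *ᵥ x

/-- The polar form in characteristic two. -/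
def polar (Q : (Fin n → F) → F) (x y : Fin n → F) : F := Q (x + y) + Q x + Q y

theorem polar_qf (M : Matrix (Fin n) (Fin n) F) (x y : Fin n → F) :
    polar (qf M) x y = x ⬝ᵥ M *ᵥ y + y ⬝ᵥ M *ᵥ x := by
  simp only [polar, qf, mulVec_add, add_dotProduct, dotProduct_add]
  linear_combination CharTwo.add_self_eq_zero (x ⬝ᵥ M *ᵥ x) + CharTwo.add_self_eq_zero (y ⬝ᵥ M *ᵥ y)

theorem polar_self (M : Matrix (Fin n) (Fin n) F) (x : Fin n → F) : polar (qf M) x x = 0 := by
  rw [polar_qf, CharTwo.add_self_eq_zero]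

theorem polar_comm (Q : (Fin n → F) → F) (x y : Fin n → F) : polar Q x y = polar Q y x := by
  rw [polar, polar, add_comm x y]; ring

theorem qf_smul (M : Matrix (Fin n) (Fin n) F) (c : F) (x : Fin n → F) : qf M (c • x) = c ^ 2 * qf M x := by
  simp [qf, mulVec_smul]; ring

theorem polar_smul_left (M : Matrix (Fin n) (Fin n) F) (c : F) (x y : Fin n → F) :
    polar (qf M) (c • x) y = c * polar (qf M) x y := by
  simp [polar_qf, mulVec_smul]; ring

theorem polar_add_left (M : Matrix (Fin n) (Fin n) F) (x x' y : Fin n → F) :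
    polar (qf M) (x + x') y = polar (qf M) x y + polar (qf M) x' y := by
  simp [polar_qf, mulVec_add, add_dotProduct]; ring

theorem polar_smul_right (M : Matrix (Fin n) (Fin n) F) (c : F) (x y : Fin n → F) :
    polar (qf M) x (c • y) = c * polar (qf M) x y := by
  rw [polar_comm, polar_smul_left, polar_comm]

theorem polar_add_right (M : Matrix (Fin n) (Fin n) F) (x y y' : Fin n → F) :
    polar (qf M) x (y + y') = polar (qf M) x y + polar (qf M) x y' := by
  rw [polar_comm, polar_add_left, polar_comm _ y, polar_comm _ y']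

theorem qf_add (M : Matrix (Fin n) (Fin n) F) (x y : Fin n → F) :
    qf M (x + y) = qf M x + qf M y + polar (qf M) x y := by
  rw [polar]
  linear_combination -(CharTwo.add_self_eq_zero (qf M x)) - CharTwo.add_self_eq_zero (qf M y)

theorem qf_congr (M g : Matrix (Fin n) (Fin n) F) (x : Fin n → F) : qf (gᵀ * M * g) x = qf M (g *ᵥ x) := by
  rw [qf, qf, ← mulVec_mulVec, ← mulVec_mulVec, dotProduct_mulVec, vecMul_transpose]

/-- A vector with a nonzero value outside the radical of the polar form. -/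
theorem exists_value_nonrad (M : Matrix (Fin n) (Fin n) F) (h : ∃ x y, polar (qf M) x y ≠ 0) :
    ∃ v, qf M v ≠ 0 ∧ ∃ y, polar (qf M) v y ≠ 0 := by
  obtain ⟨x, y, hxy⟩ := h
  by_cases hx : qf M x = 0
  · by_cases hy : qf M y = 0
    · refine ⟨x + y, by rw [qf_add, hx, hy, zero_add, zero_add]; exact hxy, y, ?_⟩
      rw [polar_add_left, polar_self, add_zero]; exact hxy
    · exact ⟨y, hy, x, by rwa [polar_comm]⟩
  · exact ⟨x, hx, y, hxy⟩

omit [CharP F 2] in
theorem exists_gl_vecMul {r r' : Fin (n + 1) → F} (hr : r ≠ 0) (hr' : r' ≠ 0) :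
    ∃ g : Matrix (Fin (n + 1)) (Fin (n + 1)) F, g.det ≠ 0 ∧ r ᵥ* g = r' := by
  obtain ⟨a, ha, har⟩ := exists_gl_col hr
  obtain ⟨b, hb, hbr⟩ := exists_gl_col hr'
  have hu : IsUnit a.det := isUnit_iff_ne_zero.2 ha
  refine ⟨(b * a⁻¹)ᵀ, ?_, ?_⟩
  · rw [det_transpose, det_mul, det_nonsing_inv]
    simpa using mul_ne_zero hb (inv_ne_zero ha)
  · rw [vecMul_transpose, ← har, mulVec_mulVec, Matrix.mul_assoc, Matrix.nonsing_inv_mul a hu, Matrix.mul_one, hbr]

omit [CharP F 2] in
theorem cons_eq {k : ℕ} (x : Fin (k + 1) → F) :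
    x = x 0 • (Pi.single 0 1 : Fin (k + 1) → F) + Fin.cons 0 (fun j => x j.succ) := by
  funext i
  refine Fin.cases ?_ (fun i => ?_) i <;> simp

variable [Fintype F]

theorem exists_sqrt (c : F) : ∃ s : F, s ^ 2 = c := by
  obtain ⟨s, hs⟩ := FiniteField.isSquare_of_char_two (ringChar.eq F 2) c
  exact ⟨s, by rw [hs, sq]⟩

theorem exists_singular (hn : 3 ≤ n) (M : Matrix (Fin n) (Fin n) F) : ∃ z, z ≠ 0 ∧ qf M z = 0 := by
  classical
  by_cases h : qf M (Pi.single ⟨0, by omega⟩ 1) = 0
  · exact ⟨_, by simp, h⟩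
  set e : Fin n → F := Pi.single ⟨0, by omega⟩ 1
  let f : (Fin n → F) →ₗ[F] (Fin 2 → F) :=
    { toFun := fun x => ![x ⟨0, by omega⟩, polar (qf M) e x]
      map_add' := fun x y => by ext i; fin_cases i <;> simp [polar_add_right]
      map_smul' := fun r x => by ext i; fin_cases i <;> simp [polar_smul_right] }
  obtain ⟨y, hy, hy0⟩ := Submodule.exists_mem_ne_zero_of_ne_bot
    (LinearMap.ker_ne_bot_of_finrank_lt (f := f) (by simp; omega))
  have h1 : y ⟨0, by omega⟩ = 0 := congrFun (LinearMap.mem_ker.1 hy) 0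
  have h2 : polar (qf M) e y = 0 := congrFun (LinearMap.mem_ker.1 hy) 1
  obtain ⟨s, hs⟩ := exists_sqrt (qf M y / qf M e)
  refine ⟨s • e + y, fun h0 => hy0 ?_, ?_⟩
  · have hs0 : s = 0 := by simpa [e, h1] using congrFun h0 ⟨0, by omega⟩
    simpa [hs0] using h0
  · rw [qf_add, qf_smul, polar_smul_left, h2, mul_zero, add_zero, hs, div_mul_cancel₀ _ h, CharTwo.add_self_eq_zero]

/-- The shear adding multiples of the first basis vector. -/
def shear {k : ℕ} (η : Fin (k + 1) → F) : Matrix (Fin (k + 2)) (Fin (k + 2)) F :=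
  1 + vecMulVec (Pi.single 0 1) (Fin.cons 0 η)

omit [CharP F 2] [Fintype F] in
theorem det_shear {k : ℕ} (η : Fin (k + 1) → F) : (shear η).det = 1 := by
  rw [shear, vecMulVec_eq (ι := Unit), det_one_add_replicateCol_mul_replicateRow]
  simp

omit [CharP F 2] [Fintype F] in
theorem shear_first {k : ℕ} (η : Fin (k + 1) → F) :
    shear η *ᵥ (Pi.single 0 1 : Fin (k + 2) → F) = Pi.single 0 1 := by
  rw [shear, add_mulVec, one_mulVec, vecMulVec_mulVec]; simp

omit [CharP F 2] [Fintype F] in
theorem shear_succ {k : ℕ} (η : Fin (k + 1) → F) (j : Fin (k + 1)) :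
    shear η *ᵥ Pi.single j.succ (1 : F) = Pi.single j.succ 1 + η j • Pi.single 0 1 := by
  rw [shear, add_mulVec, one_mulVec, vecMulVec_mulVec, op_smul_eq_smul, dotProduct_single, mul_one, Fin.cons_succ]

omit [Fintype F] in
theorem shear_effect {k : ℕ} (G : Matrix (Fin (k + 2)) (Fin (k + 2)) F) (η : Fin (k + 1) → F) (a : F)
    (r : Fin (k + 1) → F) (h2 : qf G (Pi.single 0 1) = a)
    (h3 : ∀ j, polar (qf G) (Pi.single 0 1) (Pi.single j.succ 1) = r j) :
    (fun x => qf G (shear η *ᵥ x)) (Pi.single 0 1) = a ∧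
    (∀ j, polar (fun x => qf G (shear η *ᵥ x)) (Pi.single 0 1) (Pi.single j.succ 1) = r j) ∧
    (∀ j, (fun x => qf G (shear η *ᵥ x)) (Pi.single j.succ 1) =
      qf G (Pi.single j.succ 1) + η j ^ 2 * a + η j * r j) ∧
    ∀ j l, polar (fun x => qf G (shear η *ᵥ x)) (Pi.single j.succ 1) (Pi.single l.succ 1) =
      polar (qf G) (Pi.single j.succ 1) (Pi.single l.succ 1) + (η j * r l + η l * r j) := by
  have hp : ∀ x y, polar (fun x => qf G (shear η *ᵥ x)) x y = polar (qf G) (shear η *ᵥ x) (shear η *ᵥ y) := by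
    intro x y
    simp only [polar, mulVec_add]
  refine ⟨?_, fun j => ?_, fun j => ?_, fun j l => ?_⟩
  · show qf G (shear η *ᵥ _) = a
    rw [shear_first, h2]
  · rw [hp, shear_first, shear_succ, polar_add_right, polar_smul_right, polar_self, mul_zero, add_zero, h3]
  · show qf G (shear η *ᵥ _) = _
    rw [shear_succ, qf_add, qf_smul, h2, polar_smul_right, polar_comm, h3]
  · rw [hp, shear_succ, shear_succ, polar_add_left, polar_add_right, polar_add_right, polar_smul_left, polar_smul_left,
      polar_smul_right, polar_smul_right, h3, polar_self, polar_comm _ (Pi.single j.succ 1) (Pi.single 0 1), h3]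
    ring

/-- For a fixed value and a fixed nonzero polar row at the first basis vector there are many forms. -/
theorem shear_count [DecidableEq F] (S : Finset ((Fin (n + 2) → F) → F))
    (hS : ∀ g : Matrix (Fin (n + 2)) (Fin (n + 2)) F, g.det ≠ 0 → ∀ Q ∈ S, (fun x => Q (g *ᵥ x)) ∈ S)
    (M : Matrix (Fin (n + 2)) (Fin (n + 2)) F) (hM : qf M ∈ S) (v : Fin (n + 2) → F) (hv : v ≠ 0)
    (hv' : ∃ y, polar (qf M) v y ≠ 0) :
    (Fintype.card F ^ (n + 1) - 1) * Fintype.card F ^ (n + 1) ≤
      (if qf M v = 0 then 1 else 2) * (S.filter fun Q => Q (Pi.single 0 1) = qf M v ∧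
        ∃ j : Fin (n + 1), polar Q (Pi.single 0 1) (Pi.single j.succ 1) ≠ 0).card := by
  classical
  set a := qf M v with ha
  set e : Fin (n + 2) → F := Pi.single 0 1 with he
  obtain ⟨g₀, hg₀, hg₀v⟩ := exists_gl_col hv
  set A := g₀ᵀ * M * g₀ with hA
  have hAS : qf A ∈ S := by
    rw [show qf A = fun x => qf M (g₀ *ᵥ x) from funext fun x => qf_congr M g₀ x]
    exact hS g₀ hg₀ _ hM
  have hAe : qf A e = a := by rw [hA, qf_congr, he, hg₀v]
  set r : Fin (n + 1) → F := fun j => polar (qf A) e (Pi.single j.succ 1) with hr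
  have hr0 : r ≠ 0 := fun h => by
    obtain ⟨y, hy⟩ := hv'
    apply hy
    have hu : IsUnit g₀.det := isUnit_iff_ne_zero.2 hg₀
    have hgy : g₀ *ᵥ (g₀⁻¹ *ᵥ y) = y := by rw [mulVec_mulVec, Matrix.mul_nonsing_inv _ hu, one_mulVec]
    have hzero : ∀ x, polar (qf A) e x = 0 := by
      intro x
      rw [← Finset.univ_sum_single x]
      have hlin : ∀ s : Finset (Fin (n + 2)), polar (qf A) e (∑ i ∈ s, Pi.single i (x i)) = 0 := by
        intro s
        induction s using Finset.induction_on with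
        | empty => simp [polar_qf]
        | insert i s hi ih =>
          rw [Finset.sum_insert hi, polar_add_right, ih, add_zero,
            show (Pi.single i (x i) : Fin (n + 2) → F) = x i • Pi.single i 1 by rw [← Pi.single_smul, smul_eq_mul, mul_one],
            polar_smul_right]
          refine Fin.cases ?_ (fun j => ?_) i
          · rw [← he, polar_self, mul_zero]
          · rw [show polar (qf A) e (Pi.single j.succ 1) = r j from rfl, h, Pi.zero_apply, mul_zero]
      exact hlin _
    have h1 := hzero (g₀⁻¹ *ᵥ y)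
    simp only [polar, hA, qf_congr, mulVec_add, he, hg₀v, hgy] at h1
    exact h1
  -- forms with prescribed row and shear
  have hex : ∀ r' : Fin (n + 1) → F, r' ≠ 0 → ∃ G : Matrix (Fin (n + 2)) (Fin (n + 2)) F, qf G ∈ S ∧ qf G e = a ∧
      ∀ j, polar (qf G) e (Pi.single j.succ 1) = r' j := by
    intro r' hr'
    obtain ⟨g, hg, hgr⟩ := exists_gl_vecMul hr0 hr'
    let G : Matrix (Fin (n + 2)) (Fin (n + 2)) F := Matrix.of (Fin.cons (Fin.cons 1 0) fun i => Fin.cons 0 (g i))
    have hG : G.det = g.det := by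
      rw [Matrix.det_succ_row_zero, Fin.sum_univ_succ]
      simp [G]
      rfl
    have hGe : G *ᵥ e = e := by
      funext i
      refine Fin.cases ?_ (fun i => ?_) i <;> simp [G, he]
    refine ⟨Gᵀ * A * G, ?_, ?_, fun j => ?_⟩
    · rw [show qf (Gᵀ * A * G) = fun x => qf A (G *ᵥ x) from funext fun x => qf_congr A G x]
      exact hS G (by rw [hG]; exact hg) _ hAS
    · rw [qf_congr, hGe, hAe]
    · have hcol : G *ᵥ Pi.single j.succ 1 = ∑ k : Fin (n + 1), g k j • (Pi.single k.succ 1 : Fin (n + 2) → F) := by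
        funext i
        refine Fin.cases ?_ (fun i => ?_) i <;>
          simp [G, mulVec_single_one, Matrix.col, Pi.single_apply]
      have hlin : ∀ s : Finset (Fin (n + 1)), polar (qf A) e (∑ k ∈ s, g k j • (Pi.single k.succ 1 : Fin (n + 2) → F)) =
          ∑ k ∈ s, r k * g k j := by
        intro s
        induction s using Finset.induction_on with
        | empty => simp [polar_qf]
        | insert k s hk ih =>
          rw [Finset.sum_insert hk, Finset.sum_insert hk, polar_add_right, polar_smul_right, ih, mul_comm (g k j)]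
      have hp : polar (qf (Gᵀ * A * G)) e (Pi.single j.succ 1) = polar (qf A) (G *ᵥ e) (G *ᵥ Pi.single j.succ 1) := by
        simp only [polar, qf_congr, mulVec_add]
      rw [hp, hGe, hcol, hlin, ← congrFun hgr j, vecMul, dotProduct]
  let H : (Fin (n + 1) → F) → Matrix (Fin (n + 2)) (Fin (n + 2)) F := fun r' =>
    if hp : r' ≠ 0 then (hex r' hp).choose else 0
  have hH : ∀ r', r' ≠ 0 → qf (H r') ∈ S ∧ qf (H r') e = a ∧
      ∀ j, polar (qf (H r')) e (Pi.single j.succ 1) = r' j := fun r' hp => by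
    simp only [H, dif_pos hp]
    exact (hex r' hp).choose_spec
  obtain ⟨H, hH⟩ : ∃ H : (Fin (n + 1) → F) → Matrix (Fin (n + 2)) (Fin (n + 2)) F, ∀ r', r' ≠ 0 →
      qf (H r') ∈ S ∧ qf (H r') e = a ∧ ∀ j, polar (qf (H r')) e (Pi.single j.succ 1) = r' j := ⟨H, hH⟩
  let Φ : (Fin (n + 1) → F) × (Fin (n + 1) → F) → ((Fin (n + 2) → F) → F) := fun p =>
    fun x => qf (H p.1) (shear p.2 *ᵥ x)
  have hΦ : ∀ p : (Fin (n + 1) → F) × (Fin (n + 1) → F), p.1 ≠ 0 →
      Φ p ∈ S ∧ Φ p e = a ∧ (∀ j, polar (Φ p) e (Pi.single j.succ 1) = p.1 j) ∧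
      (∀ j, Φ p (Pi.single j.succ 1) = qf (H p.1) (Pi.single j.succ 1) + p.2 j ^ 2 * a + p.2 j * p.1 j) ∧
      ∀ j k, polar (Φ p) (Pi.single j.succ 1) (Pi.single k.succ 1) =
        polar (qf (H p.1)) (Pi.single j.succ 1) (Pi.single k.succ 1) + (p.2 j * p.1 k + p.2 k * p.1 j) := by
    intro p hp
    obtain ⟨h1, h2, h3⟩ := hH p.1 hp
    exact ⟨hS _ (by rw [det_shear]; exact one_ne_zero) _ h1, shear_effect (H p.1) p.2 a p.1 h2 h3⟩
  let D := ((Finset.univ : Finset (Fin (n + 1) → F)).erase 0) ×ˢ (Finset.univ : Finset (Fin (n + 1) → F))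
  have hD : D.card = (Fintype.card F ^ (n + 1) - 1) * Fintype.card F ^ (n + 1) := by
    simp [D]
  have hfib := Finset.card_le_mul_card_image D (f := Φ) (if a = 0 then 1 else 2) fun Q hQ => by
    obtain ⟨p₀, hp₀, rfl⟩ := Finset.mem_image.1 hQ
    have hp₀' : p₀.1 ≠ 0 := Finset.ne_of_mem_erase (Finset.mem_product.1 hp₀).1
    obtain ⟨k₀, hk₀⟩ := Function.ne_iff.1 hp₀'
    let cs : Finset F := if a = 0 then {0} else {0, a⁻¹}
    refine le_trans (Finset.card_le_card (t := cs.image fun c => (p₀.1, p₀.2 + c • p₀.1)) fun p hp => ?_)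
      (Finset.card_image_le.trans ?_)
    · obtain ⟨hpD, hpe⟩ := Finset.mem_filter.1 hp
      have hp' : p.1 ≠ 0 := Finset.ne_of_mem_erase (Finset.mem_product.1 hpD).1
      obtain ⟨-, -, e3, e4, e5⟩ := hΦ p hp'
      obtain ⟨-, -, f3, f4, f5⟩ := hΦ p₀ hp₀'
      have h1 : p.1 = p₀.1 := funext fun j => by rw [← e3, ← f3, hpe]
      have hd : ∀ j k, (p.2 j - p₀.2 j) * p₀.1 k + (p.2 k - p₀.2 k) * p₀.1 j = 0 := fun j k => by
        have := (e5 j k).symm.trans ((by rw [hpe] : _ = polar (Φ p₀) _ _).trans (f5 j k))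
        simp only [h1] at this
        linear_combination this
      have hq : ∀ j, (p.2 j - p₀.2 j) ^ 2 * a + (p.2 j - p₀.2 j) * p₀.1 j = 0 := fun j => by
        have := (e4 j).symm.trans ((by rw [hpe] : _ = Φ p₀ _).trans (f4 j))
        simp only [h1] at this
        linear_combination this + (p₀.2 j ^ 2 * a - p.2 j * p₀.2 j * a) * (CharTwo.two_eq_zero (R := F))
      set c : F := (p.2 k₀ - p₀.2 k₀) / p₀.1 k₀ with hc
      have hck : p.2 k₀ - p₀.2 k₀ = c * p₀.1 k₀ := (div_mul_cancel₀ _ hk₀).symm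
      have hdj : ∀ j, p.2 j - p₀.2 j = c * p₀.1 j := fun j => by
        have h := hd j k₀
        rw [hck] at h
        refine mul_right_cancel₀ hk₀ ?_
        linear_combination h - c * p₀.1 j * p₀.1 k₀ * (CharTwo.two_eq_zero (R := F))
      refine Finset.mem_image.2 ⟨c, ?_, Prod.ext h1.symm (funext fun j => ?_)⟩
      · have h := hq k₀
        rw [hck] at h
        have h' : c * (c * a + 1) * p₀.1 k₀ ^ 2 = 0 := by linear_combination h
        rcases mul_eq_zero.1 ((mul_eq_zero.1 h').resolve_right (pow_ne_zero _ hk₀)) with hc0 | hc0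
        · by_cases ha0 : a = 0 <;> simp [cs, ha0, hc0]
        · have ha0 : a ≠ 0 := fun h => by rw [h, mul_zero, zero_add] at hc0; exact one_ne_zero hc0
          have : c = a⁻¹ := by
            rw [eq_comm, inv_eq_iff_eq_inv, eq_comm]
            refine inv_eq_of_mul_eq_one_right ?_
            linear_combination hc0 - (CharTwo.two_eq_zero (R := F))
          simp [cs, ha0, this]
      · simp only [Pi.add_apply, Pi.smul_apply, smul_eq_mul]
        linear_combination -(hdj j)
    · by_cases ha0 : a = 0 <;> simp only [cs, if_pos, if_neg, ha0, if_false, not_false_eq_true]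
      · simp
      · exact Finset.card_le_two
  rw [hD] at hfib
  refine hfib.trans (Nat.mul_le_mul_left _ (Finset.card_le_card fun Q hQ => ?_))
  obtain ⟨p, hp, rfl⟩ := Finset.mem_image.1 hQ
  have hp' : p.1 ≠ 0 := Finset.ne_of_mem_erase (Finset.mem_product.1 hp).1
  obtain ⟨h1, h2, h3, -, -⟩ := hΦ p hp'
  obtain ⟨j, hj⟩ := Function.ne_iff.1 hp'
  exact Finset.mem_filter.2 ⟨h1, h2, j, by rw [h3]; exact hj⟩

/-- The minimum: twice the number of forms of rank two without zeros. -/
def minForms (q : ℕ) : ℕ → ℕ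
  | 0 => 0
  | 1 => 0
  | n + 2 => (q - 1) * ((q ^ (n + 1) - 1) * q ^ (n + 1)) + minForms q (n + 1)

omit [Fintype F] in
theorem minForms_formula (q : ℕ) (hq : 1 ≤ q) : ∀ n, 1 ≤ n →
    ((q : ℤ) + 1) * (minForms q n : ℤ) = ((q : ℤ) ^ n - 1) * ((q : ℤ) ^ n - q)
  | 0, h => absurd h (by omega)
  | 1, _ => by simp [minForms]
  | n + 2, _ => by
    have h := minForms_formula q hq (n + 1) (by omega)
    have hp : 1 ≤ q ^ (n + 1) := Nat.one_le_pow _ _ hq
    rw [minForms]
    push_cast [Nat.cast_sub hq, Nat.cast_sub hp]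
    rw [pow_succ' (q : ℤ) (n + 1)]
    linear_combination h

omit [Fintype F] in
theorem minForms_le (q : ℕ) (hq : 1 ≤ q) (n : ℕ) (hn : 1 ≤ n) : minForms q n ≤ 2 * ((q ^ n - 1) * q ^ n) := by
  have h := minForms_formula q hq n hn
  have hp : 1 ≤ q ^ n := Nat.one_le_pow _ _ hq
  have hb : (0 : ℤ) ≤ (q : ℤ) ^ n - 1 := sub_nonneg.2 (by exact_mod_cast hp)
  have hq0 : (0 : ℤ) ≤ (q : ℤ) := Int.natCast_nonneg q
  have hQ : (0 : ℤ) ≤ (q : ℤ) ^ n := pow_nonneg hq0 n
  have key : ((q : ℤ) + 1) * (minForms q n : ℤ) ≤ ((q : ℤ) + 1) * (2 * (((q : ℤ) ^ n - 1) * (q : ℤ) ^ n)) := by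
    rw [h]
    have h1 := mul_nonneg hb hQ
    have h2 := mul_nonneg hb hq0
    have h3 := mul_nonneg (mul_nonneg hb hQ) hq0
    linear_combination h1 + h2 + 2 * h3
  have h' := le_of_mul_le_mul_left key (by positivity)
  zify [hp]
  exact h'

/-- The classes of the forms with nonzero polar form are large. -/
theorem orbit_card [DecidableEq F] : ∀ (n : ℕ) (S : Finset ((Fin n → F) → F)),
    (∀ g : Matrix (Fin n) (Fin n) F, g.det ≠ 0 → ∀ Q ∈ S, (fun x => Q (g *ᵥ x)) ∈ S) → (∀ Q ∈ S, Q 0 = 0) →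
    ∀ M : Matrix (Fin n) (Fin n) F, qf M ∈ S → (∃ x y, polar (qf M) x y ≠ 0) →
      minForms (Fintype.card F) n ≤ 2 * S.card
  | 0, _, _, _, _, _, _ => by simp [minForms]
  | 1, _, _, _, _, _, _ => by simp [minForms]
  | n + 2, S, hS, hS0, M, hM, hne => by
    classical
    set q := Fintype.card F with hq
    set e : Fin (n + 2) → F := Pi.single 0 1 with he
    set P : ((Fin (n + 2) → F) → F) → Prop := fun Q => ∃ j : Fin (n + 1), polar Q e (Pi.single j.succ 1) ≠ 0 with hP
    obtain ⟨v, hv, y, hy⟩ := exists_value_nonrad M hne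
    have hv0 : v ≠ 0 := fun h => hv (by simp [h, qf])
    -- nonzero value at the first basis vector
    have h1 : (q - 1) * ((q ^ (n + 1) - 1) * q ^ (n + 1)) ≤ 2 * (S.filter fun Q => Q e ≠ 0 ∧ P Q).card := by
      have hb : ∀ c ∈ (Finset.univ : Finset F).erase 0, (q ^ (n + 1) - 1) * q ^ (n + 1) ≤
          2 * (S.filter fun Q => Q e = c ∧ P Q).card := by
        intro c hc
        have hc0 := Finset.ne_of_mem_erase hc
        obtain ⟨s, hs⟩ := exists_sqrt (c / qf M v)
        have hs0 : s ≠ 0 := fun h => div_ne_zero hc0 hv (by rw [← hs, h]; simp)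
        have hval : qf M (s • v) = c := by rw [qf_smul, hs, div_mul_cancel₀ _ hv]
        have h := shear_count S hS M hM (s • v) (smul_ne_zero hs0 hv0) ⟨y, by rw [polar_smul_left]; exact mul_ne_zero hs0 hy⟩
        rwa [hval, if_neg hc0] at h
      have hdis : (S.filter fun Q => Q e ≠ 0 ∧ P Q).card =
          ∑ c ∈ (Finset.univ : Finset F).erase 0, (S.filter fun Q => Q e = c ∧ P Q).card := by
        rw [Finset.card_eq_sum_card_fiberwise (f := fun Q : (Fin (n + 2) → F) → F => Q e)
          (t := (Finset.univ : Finset F).erase 0) fun Q hQ => Finset.mem_erase.2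
            ⟨(Finset.mem_filter.1 hQ).2.1, Finset.mem_univ _⟩]
        refine Finset.sum_congr rfl fun c hc => ?_
        rw [Finset.filter_filter]
        congr 1
        refine Finset.filter_congr fun Q _ => ?_
        have := Finset.ne_of_mem_erase hc
        aesop
      rw [hdis, Finset.mul_sum]
      refine le_trans (le_of_eq ?_) (Finset.sum_le_sum hb)
      rw [Finset.sum_const, smul_eq_mul, Finset.card_erase_of_mem (Finset.mem_univ _), Finset.card_univ]
    -- zero value
    have h2 : minForms q (n + 1) ≤ 2 * (S.filter fun Q => Q e = 0).card := by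
      rcases Nat.eq_zero_or_pos n with rfl | hn
      · simp [minForms]
      obtain ⟨z, hz0, hz⟩ := exists_singular (by omega) M
      by_cases hzr : ∃ w, polar (qf M) z w ≠ 0
      · have h := shear_count S hS M hM z hz0 hzr
        rw [if_pos hz, one_mul, hz] at h
        refine le_trans ?_ (Nat.mul_le_mul_left 2 (h.trans (Finset.card_le_card fun Q hQ => ?_)))
        · exact minForms_le q Fintype.card_pos (n + 1) (by omega)
        · obtain ⟨hQ1, hQ2, -⟩ := Finset.mem_filter.1 hQ
          exact Finset.mem_filter.2 ⟨hQ1, hQ2⟩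
      -- a singular vector in the radical
      push Not at hzr
      obtain ⟨g, hg, hgz⟩ := exists_gl_col hz0
      set A := gᵀ * M * g with hA
      have hAS : qf A ∈ S := by
        rw [show qf A = fun x => qf M (g *ᵥ x) from funext fun x => qf_congr M g x]
        exact hS g hg _ hM
      have hAe : qf A e = 0 := by rw [hA, qf_congr, he, hgz, hz]
      have hAp : ∀ w, polar (qf A) e w = 0 := fun w => by
        simp only [polar, hA, qf_congr, mulVec_add, he, hgz]
        exact hzr (g *ᵥ w)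
      let pad : ((Fin (n + 1) → F) → F) → ((Fin (n + 2) → F) → F) := fun R x => R fun j => x j.succ
      let S' : Finset ((Fin (n + 1) → F) → F) := Finset.univ.filter fun R => pad R ∈ S
      have hS' : ∀ g' : Matrix (Fin (n + 1)) (Fin (n + 1)) F, g'.det ≠ 0 → ∀ R ∈ S', (fun x => R (g' *ᵥ x)) ∈ S' := by
        intro g' hg' R hR
        simp only [S', Finset.mem_filter, Finset.mem_univ, true_and] at hR ⊢
        let G : Matrix (Fin (n + 2)) (Fin (n + 2)) F := Matrix.of (Fin.cons (Fin.cons 1 0) fun i => Fin.cons 0 (g' i))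
        have hG : G.det = g'.det := by
          rw [Matrix.det_succ_row_zero, Fin.sum_univ_succ]
          simp [G]
          rfl
        have e : pad (fun x => R (g' *ᵥ x)) = fun x => pad R (G *ᵥ x) := by
          funext x
          simp only [pad]
          congr 1
          funext j
          simp [G, mulVec, dotProduct, Fin.sum_univ_succ]
        rw [e]
        exact hS G (by rw [hG]; exact hg') _ hR
      let A' : Matrix (Fin (n + 1)) (Fin (n + 1)) F := A.submatrix Fin.succ Fin.succ
      have hpad : pad (qf A') = qf A := by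
        funext x
        have h := qf_add A (x 0 • e) (Fin.cons 0 fun j => x j.succ)
        rw [show x 0 • e + Fin.cons 0 (fun j => x j.succ) = x from (cons_eq x).symm, qf_smul, hAe, polar_smul_left, hAp,
          mul_zero, mul_zero, zero_add, add_zero] at h
        rw [h]
        simp [pad, qf, A', dotProduct, mulVec, Fin.sum_univ_succ]
      have hA'S : qf A' ∈ S' := by simp [S', hpad, hAS]
      have hA'p : ∃ x y, polar (qf A') x y ≠ 0 := by
        obtain ⟨x, w, hxw⟩ := hne
        have hu : IsUnit g.det := isUnit_iff_ne_zero.2 hg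
        refine ⟨fun j => (g⁻¹ *ᵥ x) j.succ, fun j => (g⁻¹ *ᵥ w) j.succ, fun h => hxw ?_⟩
        have h' : polar (pad (qf A')) (g⁻¹ *ᵥ x) (g⁻¹ *ᵥ w) = 0 := h
        rw [hpad] at h'
        simpa only [polar, hA, qf_congr, mulVec_add, mulVec_mulVec, Matrix.mul_nonsing_inv g hu, one_mulVec] using h'
      refine (orbit_card (n + 1) S' hS' (fun R hR => hS0 _ (Finset.mem_filter.1 hR).2) A' hA'S hA'p).trans
        (Nat.mul_le_mul_left 2 (Finset.card_le_card_of_injOn pad (fun R hR => ?_) fun R _ R' _ e' => funext fun x => ?_))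
      · simp only [S', Finset.mem_filter, Finset.mem_univ, true_and, Finset.mem_coe] at hR
        refine Finset.mem_filter.2 ⟨hR, ?_⟩
        have h0 : pad R e = pad R 0 := by
          simp only [pad]; congr 1
        rw [h0, hS0 _ hR]
      · have := congrFun e' (Fin.cons 0 x)
        simpa [pad] using this
    have h3 : (S.filter fun Q => Q e ≠ 0 ∧ P Q).card + (S.filter fun Q => Q e = 0).card ≤ S.card := by
      rw [← Finset.card_union_of_disjoint]
      · exact Finset.card_le_card (Finset.union_subset (Finset.filter_subset _ _) (Finset.filter_subset _ _))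
      · rw [Finset.disjoint_filter]
        rintro Q _ ⟨h, -⟩ h'
        exact h h'
    show (q - 1) * ((q ^ (n + 1) - 1) * q ^ (n + 1)) + minForms q (n + 1) ≤ 2 * S.card
    omega

end CfsgLib.Classical.SpEven
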