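/-
Nontrivial representations of symplectic groups over fields of even order have degree at least
`(q ^ n - 1) (q ^ n - q) / (2 (q + 1))`.
-/
import Cfsg.Agent.Lib.Classical.SpEven.QuadOrbit
import Cfsg.Agent.Lib.Classical.WeilSp.Bound
import Cfsg.Agent.Lib.Classical.WeilSU.Bound

set_option autoImplicit false

namespace CfsgLib.Classical.SpEven

open Matrix Module CfsgLib.Classical.WeilSp

variable {F : Type*} [Field F] {n : ℕ}

/-- The symmetric matrix with a given upper triangle. -/
def symU (M : Matrix (Fin n) (Fin n) F) : Matrix (Fin n) (Fin n) F :=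
  Matrix.of fun i j => M (min i j) (max i j)

theorem symU_symm (M : Matrix (Fin n) (Fin n) F) : (symU M)ᵀ = symU M := by
  ext i j; simp [symU, min_comm, max_comm]

/-- The upper triangular matrix with the same quadratic form. -/
def fold (M : Matrix (Fin n) (Fin n) F) : Matrix (Fin n) (Fin n) F :=
  Matrix.of fun i j => if i < j then M i j + M j i else if i = j then M i i else 0

theorem sum_fold (K M : Matrix (Fin n) (Fin n) F) (hK : Kᵀ = K) :
    ∑ i, ∑ j, K i j * fold M i j = ∑ i, ∑ j, K i j * M i j := by
  classical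
  have hKs : ∀ i j, K j i = K i j := fun i j => congrFun (congrFun hK i) j
  have e : ∀ i j, K i j * fold M i j = (if i ≤ j then K i j * M i j else 0) + (if i < j then K j i * M j i else 0) := by
    intro i j
    rcases lt_trichotomy i j with h | h | h
    · simp [fold, h, h.le, hKs i j, mul_add]
    · subst h; simp [fold]
    · simp [fold, h.not_gt, h.ne', not_le.2 h]
  simp only [e, Finset.sum_add_distrib]
  rw [Finset.sum_comm (f := fun i j => if i < j then K j i * M j i else 0), ← Finset.sum_add_distrib]
  refine Finset.sum_congr rfl fun i _ => ?_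
  rw [← Finset.sum_add_distrib]
  refine Finset.sum_congr rfl fun j _ => ?_
  rcases lt_trichotomy i j with h | h | h
  · simp [h.le, h.not_gt]
  · subst h; simp
  · simp [not_le.2 h, h]

theorem qf_eq_sum (M : Matrix (Fin n) (Fin n) F) (x : Fin n → F) :
    qf M x = ∑ i, ∑ j, (vecMulVec x x) i j * M i j := by
  simp only [qf, dotProduct, mulVec, vecMulVec_apply, Finset.mul_sum]
  exact Finset.sum_congr rfl fun i _ => Finset.sum_congr rfl fun j _ => by ring

theorem qf_fold (M : Matrix (Fin n) (Fin n) F) : qf (fold M) = qf M := by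
  funext x
  rw [qf_eq_sum, qf_eq_sum, sum_fold _ _ (transpose_vecMulVec x x)]

theorem dot_eq_sum (A B : Matrix (Fin n) (Fin n) F) : unmat A ⬝ᵥ unmat B = ∑ i, ∑ j, A i j * B i j := by
  simp only [dotProduct, unmat]
  rw [← finProdFinEquiv.sum_comp, Fintype.sum_prod_type]
  simp

theorem symU_dot {B : Matrix (Fin n) (Fin n) F} (hB : ∀ i j, j < i → B i j = 0) (M : Matrix (Fin n) (Fin n) F) :
    ∑ i, ∑ j, M i j * B i j = ∑ i, ∑ j, symU M i j * B i j := by
  refine Finset.sum_congr rfl fun i _ => Finset.sum_congr rfl fun j _ => ?_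
  rcases lt_or_ge j i with h | h
  · rw [hB i j h, mul_zero, mul_zero]
  · simp [symU, min_eq_left h, max_eq_right h]

variable [Fintype F]

/-- The degree bound. -/
theorem degree_bound [DecidableEq F] [CharP F 2] (hn : 2 ≤ n) (h3 : n = 2 → 3 ≤ Fintype.card F)
    {V : Type*} [AddCommGroup V] [Module ℂ V] [FiniteDimensional ℂ V]
    (ρ : Representation ℂ (Matrix.symplecticGroup (Fin n) F) V) (hne : ∃ x, ρ x ≠ 1) :
    minForms (Fintype.card F) n ≤ 2 * finrank ℂ V := by
  classical
  have hsymm : ∀ v : Fin (n * n) → F, (symU (mat v))ᵀ = symU (mat v) := fun v => symU_symm _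
  have hup : ∀ (S T : Matrix (Fin n) (Fin n) F) (hS : Sᵀ = S) (hT : Tᵀ = T),
      upS S hS * upS T hT = upS (S + T) (by rw [transpose_add, hS, hT]) := fun S T hS hT => Subtype.ext (by
    rw [Submonoid.coe_mul, upS_val, upS_val, upS_val, fromBlocks_multiply]
    simp [add_comm])
  set τ : (Fin (n * n) → F) → Module.End ℂ V := fun v => ρ (upS _ (hsymm v)) with hτ
  have hlin : ∀ a b : Matrix (Fin n) (Fin n) F, symU (a + b) = symU a + symU b := fun a b => rfl
  have hadd : ∀ a b, τ (a + b) = τ a * τ b := fun a b => by
    simp only [hτ]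
    rw [← map_mul, hup]
    rfl
  have h0 : τ 0 = 1 := by
    simp only [hτ]
    rw [show upS _ (hsymm 0) = 1 from Subtype.ext (by
      rw [upS_val, show symU (mat (0 : Fin (n * n) → F)) = 0 from rfl, fromBlocks_one]; rfl), map_one]
  have hchar : ringChar ℂ ≠ ringChar F := by
    rw [ringChar.eq_zero]
    exact fun h => CharP.ringChar_ne_zero_of_finite F h.symm
  obtain ⟨ψ, hψ⟩ := CfsgLib.LinDeg.exists_primitiveChar F ℂ hchar
  have hK := CfsgLib.LinDeg.card_ne_zero F ℂ hchar
  set E := CfsgLib.LinDeg.eigProj ψ τ with hE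
  -- occurring characters are supported on the upper triangle
  have hupper : ∀ B, E (unmat B) ≠ 0 → ∀ i j, j < i → B i j = 0 := by
    intro B hB i j hij
    by_contra hne'
    apply hψ hne'
    ext a
    have h1 := CfsgLib.LinDeg.mul_eigProj ψ τ hadd (unmat (Matrix.single i j a)) (unmat B)
    have e1 : τ (unmat (Matrix.single i j a)) = 1 := by
      have e : symU (mat (unmat (Matrix.single i j a))) = 0 := by
        rw [mat_unmat]
        ext k l
        simp only [symU, of_apply, Matrix.single_apply, Matrix.zero_apply]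
        rw [if_neg]
        rintro ⟨e1, e2⟩
        rw [e1, e2] at hij
        exact absurd (min_le_max (a := k) (b := l)) (not_le.2 hij)
      simp only [hτ]
      rw [show upS _ (hsymm (unmat (Matrix.single i j a))) = 1 from Subtype.ext (by
        rw [upS_val, e, fromBlocks_one]; rfl), map_one]
    rw [e1, one_mul] at h1
    have h3' : ψ (unmat (Matrix.single i j a) ⬝ᵥ unmat B) = 1 := by
      refine smul_left_injective ℂ hB ?_
      simp only [one_smul]
      exact h1.symm
    rw [dot_eq_sum] at h3'
    simp [Matrix.single_apply, ite_and] at h3'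
    simpa [mul_comm] using h3'
  -- the occurring quadratic forms
  let W : Finset (Fin (n * n) → F) := Finset.univ.filter fun w => E w ≠ 0
  let T : Finset ((Fin n → F) → F) := W.image fun w => qf (mat w)
  have hT : ∀ g : Matrix (Fin n) (Fin n) F, g.det ≠ 0 → ∀ Q ∈ T, (fun x => Q (g *ᵥ x)) ∈ T := by
    intro g hg Q hQ
    obtain ⟨w, hw, rfl⟩ := Finset.mem_image.1 hQ
    have hwE : E w ≠ 0 := (Finset.mem_filter.1 hw).2
    obtain ⟨B, rfl⟩ : ∃ B, w = unmat B := ⟨mat w, (unmat_mat w).symm⟩
    have hB := hupper B hwE
    have hu : IsUnit g.det := isUnit_iff_ne_zero.2 hg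
    have hu' : IsUnit gᵀ.det := by rwa [det_transpose]
    set B' := fold (gᵀ * B * g) with hB'
    refine Finset.mem_image.2 ⟨unmat B', Finset.mem_filter.2 ⟨Finset.mem_univ _, fun e => hwE ?_⟩, ?_⟩
    · let f : (Fin (n * n) → F) → (Fin (n * n) → F) := fun v =>
        unmat (Matrix.of fun i j => if i ≤ j then (g * symU (mat v) * gᵀ) i j else mat v i j)
      have hfs : ∀ v, symU (mat (f v)) = g * symU (mat v) * gᵀ := fun v => by
        have hs : (g * symU (mat v) * gᵀ)ᵀ = g * symU (mat v) * gᵀ := by
          rw [transpose_mul, transpose_mul, transpose_transpose, symU_symm, Matrix.mul_assoc]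
        simp only [f, mat_unmat]
        ext i j
        simp only [symU, of_apply, if_pos min_le_max]
        rcases le_total i j with h | h
        · rw [min_eq_left h, max_eq_right h]
        · rw [min_eq_right h, max_eq_left h]
          exact congrFun (congrFun hs i) j
      have hf : Function.Bijective f := by
        refine Finite.injective_iff_bijective.1 fun a b hab => ?_
        have hs := congrArg (fun v => symU (mat v)) hab
        simp only [hfs] at hs
        have h' := congrArg (fun X => g⁻¹ * X * gᵀ⁻¹) hs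
        simp only [Matrix.mul_assoc, Matrix.mul_nonsing_inv gᵀ hu', Matrix.mul_one,
          Matrix.nonsing_inv_mul_cancel_left g _ hu] at h'
        rw [← unmat_mat a, ← unmat_mat b]
        congr 1
        ext i j
        by_cases hij : i ≤ j
        · simpa [symU, min_eq_left hij, max_eq_right hij] using congrFun (congrFun h' i) j
        · have := congrArg (fun v => mat v i j) hab
          simpa [f, mat_unmat, hij] using this
      have hc : ρ (levi g hg) * E (unmat B') = E (unmat B) * ρ (levi g hg) := by
        refine CfsgLib.LinDeg.mul_eigProj_of_conj ψ τ hf (fun v => ?_) fun v => ?_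
        · simp only [hτ]
          rw [← map_mul, ← map_mul]
          congr 1
          refine Subtype.ext ?_
          rw [Submonoid.coe_mul, Submonoid.coe_mul, upS_val, upS_val, hfs]
          simp only [levi, fromBlocks_multiply]
          have h1 : gᵀ * (g⁻¹)ᵀ = 1 := by rw [← transpose_mul, Matrix.nonsing_inv_mul g hu, transpose_one]
          simp [Matrix.mul_assoc, h1]
        · rw [← unmat_mat (f v), dot_eq_sum, symU_dot hB, hfs]
          conv_rhs => rw [← unmat_mat v, dot_eq_sum, symU_dot (fun i j h => by
            simp [hB', fold, h.not_gt, h.ne']), hB', sum_fold _ _ (symU_symm _)]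
          have key : ∀ P Q : Matrix (Fin n) (Fin n) F, ∑ i, ∑ j, P i j * Q i j = (Pᵀ * Q).trace := fun P Q => by
            simp only [Matrix.trace, Matrix.diag_apply, Matrix.mul_apply, transpose_apply]
            rw [Finset.sum_comm]
          rw [key, key, transpose_mul, transpose_mul, transpose_transpose, symU_symm, Matrix.mul_assoc g,
            Matrix.trace_mul_comm g]
          simp only [Matrix.mul_assoc]
      rw [e, mul_zero] at hc
      exact (((Group.isUnit (levi g hg)).map ρ).mul_left_eq_zero).1 hc.symm
    · funext x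
      rw [mat_unmat, hB', qf_fold, qf_congr, mat_unmat]
  -- some polar form is nonzero
  obtain ⟨M, hM, hMp⟩ : ∃ M, qf M ∈ T ∧ ∃ x y, polar (qf M) x y ≠ 0 := by
    by_contra h
    push Not at h
    obtain ⟨x, hx⟩ := hne
    have hdiag : ∀ w, E w ≠ 0 → ∀ i j, i ≠ j → mat w i j = 0 := by
      intro w hw i j hij
      rw [← unmat_mat w] at hw
      have hu := hupper _ hw
      rw [unmat_mat] at hw
      rcases lt_or_gt_of_ne hij with hlt | hlt
      · have := h (mat w) (Finset.mem_image_of_mem _ (Finset.mem_filter.2 ⟨Finset.mem_univ _, hw⟩))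
          (Pi.single i 1) (Pi.single j 1)
        rw [polar_qf] at this
        simpa [mulVec_single_one, Matrix.col, hu j i hlt] using this
      · exact hu i j hlt
    have i₀ : Fin n := ⟨0, by omega⟩
    let i₁ : Fin n := ⟨0, by omega⟩
    let j₁ : Fin n := ⟨1, by omega⟩
    have hij : i₁ < j₁ := by simp [i₁, j₁]
    set v := unmat (Matrix.single i₁ j₁ (1 : F)) with hv
    have hτv : τ v = 1 := by
      rw [CfsgLib.LinDeg.eq_sum_eigProj ψ hψ τ h0 hadd hK v]
      refine Eq.trans (Finset.sum_congr rfl fun w _ => ?_) (CfsgLib.LinDeg.sum_eigProj ψ hψ τ h0 hK)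
      by_cases hw : E w = 0
      · rw [← hE, hw, smul_zero]
      · rw [show v ⬝ᵥ w = 0 by
          rw [← unmat_mat w, hv, dot_eq_sum]
          refine Finset.sum_eq_zero fun i _ => Finset.sum_eq_zero fun j _ => ?_
          by_cases hd : i = j
          · subst hd
            rw [Matrix.single_apply, if_neg (fun hh => hij.ne (hh.1.trans hh.2.symm)), zero_mul]
          · rw [hdiag w hw i j hd, mul_zero]]
        rw [AddChar.map_zero_eq_one, one_smul]
    haveI := CfsgLib.Classical.psp_isSimple (F := F) hn h3
    have hperf : commutator (Matrix.symplecticGroup (Fin n) F) = ⊤ := CfsgLib.Classical.commutator_symplectic (by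
      rcases Nat.lt_or_ge n 3 with h | h
      · exact Or.inr (Or.inl ⟨by omega, h3 (by omega)⟩)
      · exact Or.inl h)
    have hnc : upS _ (hsymm v) ∉ Subgroup.center _ := fun hc => by
      have := congrFun (congrFun (upS_central (hsymm v) hc) i₁) j₁
      simp [hv, mat_unmat, symU, min_eq_left hij.le, max_eq_right hij.le] at this
    exact hx (MonoidHom.mem_ker.1 ((CfsgLib.Classical.WeilSU.eq_top_of_normal (N := MonoidHom.ker ρ) hperf
      (MonoidHom.mem_ker.2 hτv) hnc) ▸ Subgroup.mem_top x))
  refine (orbit_card n T hT (fun Q hQ => ?_) M hM hMp).trans (Nat.mul_le_mul_left 2 ?_)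
  · obtain ⟨w, -, rfl⟩ := Finset.mem_image.1 hQ
    simp [qf]
  rw [CfsgLib.LinDeg.finrank_eq_sum_range E (fun i j => by
      convert CfsgLib.LinDeg.eigProj_mul ψ hψ τ hadd hK i j using 2) (CfsgLib.LinDeg.sum_eigProj ψ hψ τ h0 hK)]
  calc T.card ≤ W.card := Finset.card_image_le
    _ = ∑ w ∈ W, 1 := by simp
    _ ≤ ∑ w ∈ W, finrank ℂ (LinearMap.range (E w)) := by
      refine Finset.sum_le_sum fun w hw => ?_
      rw [Nat.one_le_iff_ne_zero]
      intro h
      rw [Submodule.finrank_eq_zero, LinearMap.range_eq_bot] at h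
      exact (Finset.mem_filter.1 hw).2 h
    _ ≤ _ := Finset.sum_le_sum_of_subset (Finset.subset_univ _)

end CfsgLib.Classical.SpEven
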